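import Groth.Agent.L04.KSh.Hom
import Groth.Agent.L19.ProjBdl.TensFrame
import Groth.Agent.L12.FinCov.Frame
import Groth.Prelude.Def_KoszTw
import Mathlib.LinearAlgebra.ExteriorPower.Basis
import Mathlib.CategoryTheory.Abelian.Basic

/-!
# The Koszul complex of a twisted cosection
-/

set_option autoImplicit false
set_option linter.style.haveILetI false
set_option backward.isDefEq.respectTransparency false

universe u

open CategoryTheory CategoryTheory.Limits TopologicalSpace AlgebraicGeometry Opposite exteriorPower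
open Groth.L18.Frame (rs IsFrame)

noncomputable section

namespace Groth.L04.KSh

variable {X : Scheme.{u}}

theorem app_injective_of_mono {F G : X.Modules} (φ : F ⟶ G) [Mono φ] (U : X.Opens) :
    Function.Injective (φ.app U) := by
  haveI h₁ : Mono ((SheafOfModules.toSheaf X.ringCatSheaf).map φ) :=
    inferInstanceAs (Mono ((Groth.L21.Mod.toAbSh X).map φ))
  have h₂ : Mono ((sheafToPresheaf _ _).map ((SheafOfModules.toSheaf X.ringCatSheaf).map φ)) := inferInstance
  exact (AddCommGrpCat.mono_iff_injective _).1 ((NatTrans.mono_iff_mono_app _).1 h₂ (op U))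

/-- Morphisms agreeing on sections over small good opens agree. -/
theorem hom_ext_cover {M N : X.Modules} {α β : M ⟶ N}
    (h : ∀ (x : X) (W : X.Opens), x ∈ W → ∃ U : X.affineOpens, x ∈ U.1 ∧ U.1 ≤ W ∧
      ∀ m : Γ(M, U.1), α.app U.1 m = β.app U.1 m) : α = β := by
  refine Groth.L21.Mod.hom_ext_stalk fun x => ?_
  ext w
  obtain ⟨W, hxW, m, rfl⟩ := M.presheaf.germ_exist w
  obtain ⟨U, hxU, hUW, hU⟩ := h x W hxW
  change (Groth.L21.Mod.stalkF X x).map α _ = (Groth.L21.Mod.stalkF X x).map β _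
  rw [← M.presheaf.germ_res_apply (homOfLE hUW) x hxU, Groth.L21.Mod.stalkF_map_germ,
    Groth.L21.Mod.stalkF_map_germ, hU]

theorem zero_app {M N : X.Modules} (U : X.Opens) (m : Γ(M, U)) : (0 : M ⟶ N).app U m = 0 := rfl

theorem comp_app_apply {M N P : X.Modules} (f : M ⟶ N) (g : N ⟶ P) (U : X.Opens) (m : Γ(M, U)) :
    (f ≫ g).app U m = g.app U (f.app U m) := rfl

theorem kernelSubobject_le {P A B : X.Modules} (α : P ⟶ A) (β : P ⟶ B)
    (h : ∀ (x : X) (W : X.Opens), x ∈ W → ∃ U : X.affineOpens, x ∈ U.1 ∧ U.1 ≤ W ∧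
      ∀ z : Γ(P, U.1), α.app U.1 z = 0 → β.app U.1 z = 0) :
    kernelSubobject α ≤ kernelSubobject β := by
  refine le_kernelSubobject _ _ (hom_ext_cover fun x W hx => ?_)
  obtain ⟨U, hxU, hUW, hU⟩ := h x W hx
  refine ⟨U, hxU, hUW, fun m => ?_⟩
  rw [zero_app, comp_app_apply]
  refine hU _ ?_
  rw [← comp_app_apply, kernelSubobject_arrow_comp, zero_app]

theorem imageSubobject_le_of_local {P Q T : X.Modules} (α : P ⟶ T) (β : Q ⟶ T)
    (h : ∀ (x : X) (W : X.Opens), x ∈ W → ∃ U : X.affineOpens, x ∈ U.1 ∧ U.1 ≤ W ∧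
      ∀ z : Γ(Q, U.1), ∃ z' : Γ(P, U.1), α.app U.1 z' = β.app U.1 z) :
    imageSubobject β ≤ imageSubobject α := by
  have h0 : β ≫ cokernel.π α = 0 := hom_ext_cover fun x W hx => by
    obtain ⟨U, hxU, hUW, hU⟩ := h x W hx
    refine ⟨U, hxU, hUW, fun m => ?_⟩
    obtain ⟨z', hz'⟩ := hU m
    rw [zero_app, comp_app_apply, ← hz', ← comp_app_apply, cokernel.condition, zero_app]
  refine imageSubobject_le β
    (kernel.lift (cokernel.π α) β h0 ≫ (Abelian.imageIsoImage α).hom ≫ (imageSubobjectIso α).inv) ?_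
  simp

theorem dGen_smul {R : Type*} [CommRing R] {M : Type*} [AddCommGroup M] [Module R M] (φ : M →ₗ[R] R) (a : R)
    (p : ℕ) (e : Fin (p + 1) → M) : KoszSh.dGen (a • φ) p e = a • KoszSh.dGen φ p e := by
  simp only [KoszSh.dGen, Finset.smul_sum, smul_smul, LinearMap.smul_apply, smul_eq_mul]
  exact Finset.sum_congr rfl fun i _ => by congr 1; ring

theorem exteriorPower_map_bijective {R : Type*} [CommRing R] {M N : Type*} [AddCommGroup M] [Module R M]
    [AddCommGroup N] [Module R N] (p : ℕ) (e : M ≃ₗ[R] N) :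
    Function.Bijective (exteriorPower.map p e.toLinearMap) :=
  ⟨exteriorPower.map_injective e.symm.toLinearMap (by ext m; simp),
    exteriorPower.map_surjective e.surjective⟩

variable {F L : X.Modules} {s : F ⟶ Coh.structureModule X} {lam : Coh.structureModule X ⟶ L}
  {t : CohB1.tensorMod F L ⟶ Coh.structureModule X}

theorem tmul_eq_tens (M N : X.Modules) (U : X.Opens) (m : Γ(M, U)) (n : Γ(N, U)) :
    SecTwist.tmul M N U m n = Groth.L18.GenLoc.tens M N U m n := rfl

theorem bijective_tmul {M N : X.Modules} {U : X.Opens} {e : Γ(N, U)} (he : IsFrame N U e) :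
    Function.Bijective fun m : Γ(M, U) => SecTwist.tmul M N U m e := by
  have := Groth.L19.ProjBdl.bijective_tens_frame (M := M) he (le_refl U)
  rw [Groth.L18.Frame.rs_self] at this
  exact this

theorem isFrame_one (U : X.Opens) : IsFrame (Coh.structureModule X) U (1 : Γ(X, U)) := by
  intro V h
  have : (fun a : Γ(X, V) => a • rs (Coh.structureModule X) h (1 : Γ(X, U))) = fun a : Γ(X, V) => a := by
    funext a
    show a * X.presheaf.map (homOfLE h).op (1 : Γ(X, U)) = a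
    rw [map_one, mul_one]
  rw [this]
  exact Function.bijective_id

theorem isFrame_tprod {U : X.Opens} {e : Γ(L, U)} (he : IsFrame L U e) :
    ∀ n : ℕ, IsFrame (CohB1.tensorPow L n) U (KoszTw.tprod L n U fun _ => e)
  | 0 => isFrame_one U
  | n + 1 => Groth.L18.GenLoc.isFrame_tens (isFrame_tprod he n) he

/-- Twisting sections by a frame. -/
def twistₗ (F : X.Modules) {U : X.Opens} {e : Γ(L, U)} (he : IsFrame L U e) :
    Γ(F, U) ≃ₗ[Γ(X, U)] Γ(CohB1.tensorMod F L, U) :=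
  LinearEquiv.ofBijective
    { toFun := fun f => SecTwist.tmul F L U f e
      map_add' := fun a b => Groth.L12.FinCov.tmul_add_left F L U a b e
      map_smul' := fun r a => Groth.L12.FinCov.tmul_smul_left F L U r a e }
    (bijective_tmul he)

variable (C : KoszSh.Cx F s) (D : KoszSh.Cx (CohB1.tensorMod F L) t)

/-- Transport of Koszul terms along a frame. -/
def Phi (p : ℕ) (U : X.affineOpens) {e : Γ(L, U.1)} (he : IsFrame L U.1 e) :
    Γ(C.K.X p, U.1) →ₗ[Γ(X, U.1)] Γ(D.K.X p, U.1) :=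
  (D.loc p U).symm.toLinearMap ∘ₗ (exteriorPower.map p (twistₗ F he).toLinearMap) ∘ₗ (C.loc p U).toLinearMap

theorem Phi_bijective (p : ℕ) (U : X.affineOpens) {e : Γ(L, U.1)} (he : IsFrame L U.1 e) :
    Function.Bijective (Phi C D p U he) :=
  (D.loc p U).symm.bijective.comp ((exteriorPower_map_bijective p (twistₗ F he)).comp (C.loc p U).bijective)

theorem Phi_ιMulti (p : ℕ) (U : X.affineOpens) {e : Γ(L, U.1)} (he : IsFrame L U.1 e)
    (f : Fin p → Γ(F, U.1)) :
    Phi C D p U he ((C.loc p U).symm (ιMulti _ p f)) =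
      (D.loc p U).symm (ιMulti _ p fun j => SecTwist.tmul F L U.1 (f j) e) := by
  simp only [Phi, LinearMap.comp_apply, LinearEquiv.coe_coe, LinearEquiv.apply_symm_apply,
    exteriorPower.map_apply_ιMulti]
  rfl

theorem lam_apply (U : X.Opens) (r : Γ(X, U)) :
    lam.app U r = r • lam.app U (1 : Γ(X, U)) := by
  rw [← Scheme.Modules.Hom.app_smul lam r (1 : Γ(X, U))]
  congr 1
  exact (mul_one r).symm

theorem secForm_eq (htri : KoszTw.TwistTriangle s lam t) (U : X.Opens) {e : Γ(L, U)} (he : IsFrame L U e)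
    {a : Γ(X, U)} (ha : lam.app U (1 : Γ(X, U)) = a • e) (f : Γ(F, U)) :
    KoszSh.secForm s U f = a * KoszSh.secForm t U (SecTwist.tmul F L U f e) := by
  refine he.inj (le_refl U) ?_
  rw [Groth.L18.Frame.rs_self, ← htri U f e, mul_comm, ← smul_smul, ← ha]
  exact lam_apply U _

theorem Phi_d (htri : KoszTw.TwistTriangle s lam t) (p : ℕ) (U : X.affineOpens) {e : Γ(L, U.1)}
    (he : IsFrame L U.1 e) {a : Γ(X, U.1)} (ha : lam.app U.1 (1 : Γ(X, U.1)) = a • e)
    (w : Γ(C.K.X (p + 1), U.1)) :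
    Phi C D p U he ((C.K.d (p + 1) p).app U.1 w) =
      a • (D.K.d (p + 1) p).app U.1 (Phi C D (p + 1) U he w) := by
  have : (Phi C D p U he).comp (appₗ (C.K.d (p + 1) p) U.1) =
      a • (appₗ (D.K.d (p + 1) p) U.1).comp (Phi C D (p + 1) U he) := by
    refine ext_ιMulti C (p + 1) U fun f => ?_
    simp only [LinearMap.comp_apply, LinearMap.smul_apply, appₗ_apply]
    rw [Phi_ιMulti, C.rule, D.rule]
    simp only [Phi, LinearMap.comp_apply, LinearEquiv.coe_coe, LinearEquiv.apply_symm_apply]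
    rw [map_dGen (ψ := a • KoszSh.secForm t U.1) (twistₗ F he).toLinearMap
      (fun m => (secForm_eq htri U.1 he ha m).symm), dGen_smul, map_smul]
    rfl
  exact LinearMap.congr_fun this w

theorem theta_Phi {n : ℕ} (θ : KoszTw.CxDecData C D n) (U : X.affineOpens) {e : Γ(L, U.1)}
    (he : IsFrame L U.1 e) (w : Γ(C.K.X n, U.1)) :
    θ.iso.hom.app U.1 (Phi C D n U he w) =
      SecTwist.tmul (C.K.X n) (CohB1.tensorPow L n) U.1 w (KoszTw.tprod L n U.1 fun _ => e) := by
  let τ : Γ(C.K.X n, U.1) →ₗ[Γ(X, U.1)] Γ(CohB1.tensorMod (C.K.X n) (CohB1.tensorPow L n), U.1) :=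
    { toFun := fun w => SecTwist.tmul (C.K.X n) (CohB1.tensorPow L n) U.1 w (KoszTw.tprod L n U.1 fun _ => e)
      map_add' := fun a b => Groth.L12.FinCov.tmul_add_left _ _ U.1 a b _
      map_smul' := fun r a => Groth.L12.FinCov.tmul_smul_left _ _ U.1 r a _ }
  have : (appₗ θ.iso.hom U.1).comp (Phi C D n U he) = τ := by
    refine ext_ιMulti C n U fun f => ?_
    simp only [LinearMap.comp_apply, appₗ_apply]
    rw [Phi_ιMulti]
    exact θ.rule U f fun _ => e
  exact LinearMap.congr_fun this w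

theorem exists_good (hF : FlatMod.IsFinLocFree F) (hL : PicF.IsInvertible L) (x : X) (W : X.Opens) (hx : x ∈ W) :
    ∃ (U : X.affineOpens) (e : Γ(L, U.1)) (n : ℕ) (_ : Module.Basis (Fin n) Γ(X, U.1) Γ(F, U.1)),
      x ∈ U.1 ∧ U.1 ≤ W ∧ IsFrame L U.1 e := by
  obtain ⟨W', e, -, hxW', he⟩ := Groth.L18.GenLoc.exists_affine_frame hL x
  obtain ⟨V, n, b, hV, hxV, hVW, hb⟩ := Groth.L12.FinCov.exists_basisOn hF x (W ⊓ W') ⟨hx, hxW'⟩
  let lcₗ : (Fin n → Γ(X, V)) →ₗ[Γ(X, V)] Γ(F, V) :=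
    { toFun := Groth.L12.FinCov.lc F b (le_refl V)
      map_add' := fun c c' => by simp [Groth.L12.FinCov.lc, add_smul, Finset.sum_add_distrib]
      map_smul' := fun r c => by simp [Groth.L12.FinCov.lc, Finset.smul_sum, smul_smul] }
  exact ⟨⟨V, hV⟩, rs L (hVW.trans inf_le_right) e, n, Module.Basis.ofEquivFun (LinearEquiv.ofBijective lcₗ (hb V le_rfl)).symm,
    hxV, hVW.trans inf_le_left, he.mono _⟩

theorem kernelSubobject_eq (hF : FlatMod.IsFinLocFree F) (hL : PicF.IsInvertible L) [Mono lam]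
    (htri : KoszTw.TwistTriangle s lam t) (q : ℕ) (θ : KoszTw.CxDecData C D (q + 1)) :
    kernelSubobject (θ.iso.hom ≫ KoszTw.tensorMap (C.K.d (q + 1) q) (𝟙 (CohB1.tensorPow L (q + 1)))) =
      kernelSubobject (D.K.d (q + 1) q) := by
  have key : ∀ (x : X) (W : X.Opens), x ∈ W → ∃ U : X.affineOpens, x ∈ U.1 ∧ U.1 ≤ W ∧
      ∀ z : Γ(D.K.X (q + 1), U.1),
        (θ.iso.hom ≫ KoszTw.tensorMap (C.K.d (q + 1) q) (𝟙 (CohB1.tensorPow L (q + 1)))).app U.1 z = 0 ↔
          (D.K.d (q + 1) q).app U.1 z = 0 := by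
    intro x W hx
    obtain ⟨U, e, n, bF, hxU, hUW, he⟩ := exists_good hF hL x W hx
    refine ⟨U, hxU, hUW, fun z => ?_⟩
    obtain ⟨a, ha'⟩ := he.exists_coeff (le_refl U.1) (lam.app U.1 (1 : Γ(X, U.1)))
    rw [Groth.L18.Frame.rs_self] at ha'
    obtain ⟨w, rfl⟩ := (Phi_bijective C D (q + 1) U he).2 z
    rw [comp_app_apply, theta_Phi C D θ U he, KoszTw.tensorMap_tmul]
    have hinj := (bijective_tmul (M := C.K.X q) (isFrame_tprod he (q + 1))).1
    have h0 : SecTwist.tmul (C.K.X q) (CohB1.tensorPow L (q + 1)) U.1 (0 : Γ(C.K.X q, U.1))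
        (KoszTw.tprod L (q + 1) U.1 fun _ => e) = 0 :=
      Groth.L19.ProjBdl.tens_zero_left _
    have h1 : SecTwist.tmul (C.K.X q) (CohB1.tensorPow L (q + 1)) U.1 ((C.K.d (q + 1) q).app U.1 w)
        (KoszTw.tprod L (q + 1) U.1 fun _ => e) = 0 ↔ (C.K.d (q + 1) q).app U.1 w = 0 := by
      refine ⟨fun h => hinj (h.trans h0.symm), fun h => by rw [h]; exact h0⟩
    refine h1.trans ?_
    rw [← (injective_iff_map_eq_zero' _).1 (Phi_bijective C D q U he).1, Phi_d C D htri q U he ha'.symm]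
    refine ⟨fun h => ?_, fun h => by rw [h, smul_zero]⟩
    have hreg : ∀ r : Γ(X, U.1), a * r = 0 → r = 0 := by
      intro r hr
      refine app_injective_of_mono lam U.1 ?_
      rw [lam_apply (lam := lam) U.1 r, ← ha', smul_smul, mul_comm r a, hr, zero_smul]
      exact (map_zero _).symm
    let bD := ((bF.map (twistₗ F he)).exteriorPower q).map (D.loc q U).symm
    refine bD.repr.injective ?_
    rw [map_zero]
    ext i
    have h2 := congrArg (fun v => bD.repr v i) h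
    simp only [map_smul, map_zero, Finsupp.coe_zero, Pi.zero_apply, Finsupp.smul_apply, smul_eq_mul] at h2
    exact hreg _ h2
  refine le_antisymm (kernelSubobject_le _ _ fun x W hx => ?_) (kernelSubobject_le _ _ fun x W hx => ?_)
  · obtain ⟨U, h1, h2, h3⟩ := key x W hx; exact ⟨U, h1, h2, fun z => (h3 z).1⟩
  · obtain ⟨U, h1, h2, h3⟩ := key x W hx; exact ⟨U, h1, h2, fun z => (h3 z).2⟩

theorem imageSubobject_eq (hF : FlatMod.IsFinLocFree F) (hL : PicF.IsInvertible L)
    (htri : KoszTw.TwistTriangle s lam t) (q : ℕ) (θ : KoszTw.CxDecData C D q) :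
    imageSubobject (KoszTw.tensorMap (KoszTw.tensorMap (C.K.d (q + 1) q) (𝟙 (CohB1.tensorPow L q))) (𝟙 L)) =
      imageSubobject ((SecTwist.unitorR (D.K.X (q + 1))).inv ≫ KoszTw.tensorMap (D.K.d (q + 1) q) lam ≫
        KoszTw.tensorMap θ.iso.hom (𝟙 L)) := by
  set α := KoszTw.tensorMap (KoszTw.tensorMap (C.K.d (q + 1) q) (𝟙 (CohB1.tensorPow L q))) (𝟙 L) with hα
  set β := (SecTwist.unitorR (D.K.X (q + 1))).inv ≫ KoszTw.tensorMap (D.K.d (q + 1) q) lam ≫
        KoszTw.tensorMap θ.iso.hom (𝟙 L) with hβ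
  have key : ∀ (x : X) (W : X.Opens), x ∈ W → ∃ U : X.affineOpens, x ∈ U.1 ∧ U.1 ≤ W ∧
      (∀ z, ∃ z', α.app U.1 z' = β.app U.1 z) ∧ ∀ z', ∃ z, β.app U.1 z = α.app U.1 z' := by
    intro x W hx
    obtain ⟨U, e, n, -, hxU, hUW, he⟩ := exists_good hF hL x W hx
    obtain ⟨a, ha'⟩ := he.exists_coeff (le_refl U.1) (lam.app U.1 (1 : Γ(X, U.1)))
    rw [Groth.L18.Frame.rs_self] at ha'
    have main : ∀ w : Γ(C.K.X (q + 1), U.1), β.app U.1 (Phi C D (q + 1) U he w) =
        α.app U.1 (SecTwist.tmul _ L U.1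
          (SecTwist.tmul (C.K.X (q + 1)) (CohB1.tensorPow L q) U.1 w (KoszTw.tprod L q U.1 fun _ => e)) e) := by
      intro w
      have hinv : ∀ z : Γ(D.K.X (q + 1), U.1), (SecTwist.unitorR (D.K.X (q + 1))).inv.app U.1 z =
          SecTwist.tmul (D.K.X (q + 1)) (Coh.structureModule X) U.1 z (1 : Γ(X, U.1)) := by
        intro z
        have h := SecTwist.unitorR_tmul (D.K.X (q + 1)) U.1 z (1 : Γ(X, U.1))
        rw [one_smul] at h
        conv_lhs => rw [← h]
        show ((SecTwist.unitorR (D.K.X (q + 1))).hom ≫ (SecTwist.unitorR (D.K.X (q + 1))).inv).app U.1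
          (SecTwist.tmul (D.K.X (q + 1)) (Coh.structureModule X) U.1 z (1 : Γ(X, U.1))) = _
        rw [Iso.hom_inv_id]
        rfl
      rw [hβ, comp_app_apply, comp_app_apply, hinv, KoszTw.tensorMap_tmul, KoszTw.tensorMap_tmul, ← ha', hα,
        KoszTw.tensorMap_tmul, KoszTw.tensorMap_tmul]
      show SecTwist.tmul _ L U.1 (θ.iso.hom.app U.1 ((D.K.d (q + 1) q).app U.1 (Phi C D (q + 1) U he w))) (a • e) =
        SecTwist.tmul _ L U.1 (SecTwist.tmul (C.K.X q) (CohB1.tensorPow L q) U.1 ((C.K.d (q + 1) q).app U.1 w)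
          (KoszTw.tprod L q U.1 fun _ => e)) e
      rw [← theta_Phi C D θ U he, Phi_d C D htri q U he ha'.symm, Scheme.Modules.Hom.app_smul]
      exact (Groth.L12.FinCov.tmul_smul_right _ L U.1 a _ e).trans
        (Groth.L12.FinCov.tmul_smul_left _ L U.1 a _ e).symm
    refine ⟨U, hxU, hUW, fun z => ?_, fun z' => ?_⟩
    · obtain ⟨w, rfl⟩ := (Phi_bijective C D (q + 1) U he).2 z
      exact ⟨_, (main w).symm⟩
    · obtain ⟨v, rfl⟩ := (bijective_tmul (M := CohB1.tensorMod (C.K.X (q + 1)) (CohB1.tensorPow L q)) he).2 z'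
      obtain ⟨w, rfl⟩ := (bijective_tmul (M := C.K.X (q + 1)) (isFrame_tprod he q)).2 v
      exact ⟨_, main w⟩
  refine le_antisymm (imageSubobject_le_of_local _ _ fun x W hx => ?_) (imageSubobject_le_of_local _ _ fun x W hx => ?_)
  · obtain ⟨U, h1, h2, -, h4⟩ := key x W hx; exact ⟨U, h1, h2, h4⟩
  · obtain ⟨U, h1, h2, h3, -⟩ := key x W hx; exact ⟨U, h1, h2, h3⟩

end Groth.L04.KSh
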