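import Groth.Agent.L21.Mod.Glue
import Groth.Prelude.Def_KoszulSh

/-!
# Morphisms of modules and of Koszul complexes from sections over affine opens
-/

set_option autoImplicit false

universe u

open CategoryTheory CategoryTheory.Limits TopologicalSpace AlgebraicGeometry Opposite exteriorPower

noncomputable section

namespace Groth.L04.KSh

variable {X : Scheme.{u}}

theorem isBasis_affine : Opens.IsBasis (Set.range fun U : X.affineOpens => U.1) := by
  have h := X.isBasis_affineOpens
  convert h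
  ext U
  simp

/-- Two morphisms agreeing on sections over affine opens agree. -/
theorem hom_ext_affine {M N : X.Modules} {α β : M ⟶ N}
    (h : ∀ (U : X.affineOpens) (s : Γ(M, U.1)), α.app U.1 s = β.app U.1 s) : α = β := by
  have h1 : α.mapPresheaf = β.mapPresheaf :=
    TopCat.Sheaf.hom_ext M.presheaf ⟨N.presheaf, N.isSheaf⟩ isBasis_affine fun U => by
      ext s
      exact h U s
  apply Scheme.Modules.hom_ext
  intro V
  ext s
  exact ConcreteCategory.congr_hom (NatTrans.congr_app h1 (op V)) s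

/-- A morphism from compatible linear maps on affine opens. -/
theorem exists_hom_affine {M N : X.Modules} (φ : ∀ U : X.affineOpens, Γ(M, U.1) →ₗ[Γ(X, U.1)] Γ(N, U.1))
    (hnat : ∀ (U V : X.affineOpens) (h : V.1 ≤ U.1) (s : Γ(M, U.1)),
      φ V (M.presheaf.map (homOfLE h).op s) = N.presheaf.map (homOfLE h).op (φ U s)) :
    ∃ Φ : M ⟶ N, ∀ (U : X.affineOpens) (s : Γ(M, U.1)), Φ.app U.1 s = φ U s := by
  let B := fun U : X.affineOpens => U.1
  have hB : Opens.IsBasis (Set.range B) := isBasis_affine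
  let α : (inducedFunctor B).op ⋙ M.presheaf ⟶ (inducedFunctor B).op ⋙ N.presheaf :=
    { app := fun p => AddCommGrpCat.ofHom (φ p.unop).toAddMonoidHom
      naturality := fun p q g => by
        ext s
        exact hnat p.unop q.unop g.unop.hom.le s }
  let Φ₀ : M.presheaf ⟶ N.presheaf :=
    TopCat.Sheaf.restrictHomEquivHom M.presheaf ⟨N.presheaf, N.isSheaf⟩ hB α
  have hΦ₀ : ∀ (U : X.affineOpens) (s : Γ(M, U.1)), Φ₀.app (op U.1) s = φ U s := fun U s =>
    ConcreteCategory.congr_hom (TopCat.Sheaf.extend_hom_app M.presheaf ⟨N.presheaf, N.isSheaf⟩ hB α U) s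
  have hlin : ∀ (V : (Opens X)ᵒᵖ) (r : X.ringCatSheaf.obj.obj V) (s : M.val.obj V),
      Φ₀.app V (r • s) = r • (show N.val.obj V from Φ₀.app V s) := by
    intro V r s
    refine TopCat.Presheaf.section_ext ((Groth.L21.Mod.toAbSh X).obj N) V.unop _ _ fun x hx => ?_
    obtain ⟨_, ⟨W, hW, rfl⟩, hxW, hWV'⟩ :=
      X.isBasis_affineOpens.exists_subset_of_mem_open (show x ∈ (V.unop : Set X) from hx) V.unop.2
    have hWV : W ≤ V.unop := hWV'
    show N.presheaf.germ V.unop x hx _ = N.presheaf.germ V.unop x hx _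
    rw [← N.presheaf.germ_res_apply (homOfLE hWV) x hxW, ← N.presheaf.germ_res_apply (homOfLE hWV) x hxW]
    congr 1
    have n1 : ∀ t, N.presheaf.map (homOfLE hWV).op (Φ₀.app V t) =
        Φ₀.app (op W) (M.presheaf.map (homOfLE hWV).op t) := fun t =>
      (ConcreteCategory.congr_hom (Φ₀.naturality (homOfLE hWV).op) t).symm
    refine (n1 (r • s)).trans ?_
    refine Eq.trans ?_ (Scheme.Modules.map_smul N (homOfLE hWV) r (Φ₀.app V s)).symm
    rw [n1, hΦ₀ ⟨W, hW⟩, hΦ₀ ⟨W, hW⟩]
    exact (congrArg (φ ⟨W, hW⟩) (Scheme.Modules.map_smul M (homOfLE hWV) r s)).trans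
      ((φ ⟨W, hW⟩).map_smul _ _)
  exact ⟨⟨PresheafOfModules.homMk Φ₀ hlin⟩, hΦ₀⟩

/-- A morphism of modules on sections over an open, as a linear map. -/
def appₗ {M N : X.Modules} (α : M ⟶ N) (U : X.Opens) : Γ(M, U) →ₗ[Γ(X, U)] Γ(N, U) where
  toFun s := α.app U s
  map_add' a b := map_add _ a b
  map_smul' r a := Scheme.Modules.Hom.app_smul α r a

theorem appₗ_apply {M N : X.Modules} (α : M ⟶ N) (U : X.Opens) (s : Γ(M, U)) :
    appₗ α U s = α.app U s := rfl

theorem map_dGen {R : Type*} [CommRing R] {M N : Type*} [AddCommGroup M] [Module R M] [AddCommGroup N]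
    [Module R N] (g : M →ₗ[R] N) {φ : M →ₗ[R] R} {ψ : N →ₗ[R] R} (h : ∀ m, ψ (g m) = φ m) (p : ℕ)
    (e : Fin (p + 1) → M) :
    exteriorPower.map p g (KoszSh.dGen φ p e) = KoszSh.dGen ψ p (fun j => g (e j)) := by
  simp only [KoszSh.dGen, map_sum, map_smul, exteriorPower.map_apply_ιMulti, h]
  rfl

variable {E F : X.Modules} {s : E ⟶ Coh.structureModule X} {t : F ⟶ Coh.structureModule X}

/-- A linear map out of the sections of a Koszul term is determined on decomposable elements. -/
theorem ext_ιMulti (C : KoszSh.Cx E s) (p : ℕ) (U : X.affineOpens) {N : Type*} [AddCommGroup N]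
    [Module Γ(X, U.1) N] {a b : Γ(C.K.X p, U.1) →ₗ[Γ(X, U.1)] N}
    (h : ∀ e : Fin p → Γ(E, U.1),
      a ((C.loc p U).symm (ιMulti _ p e)) = b ((C.loc p U).symm (ιMulti _ p e))) : a = b := by
  have h2 : a.comp (C.loc p U).symm.toLinearMap = b.comp (C.loc p U).symm.toLinearMap := by
    refine exteriorPower.linearMap_ext ?_
    ext e
    exact h e
  refine LinearMap.ext fun x => ?_
  have := LinearMap.congr_fun h2 (C.loc p U x)
  simpa using this

theorem exists_unique_chainMap (C : KoszSh.Cx E s) (D : KoszSh.Cx F t) (f : E ⟶ F) (hf : f ≫ t = s) :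
    ∃! φ : C.K ⟶ D.K, ∀ (p : ℕ) (U : X.affineOpens) (e : Fin p → Γ(E, U.1)),
      (φ.f p).app U.1 ((C.loc p U).symm (ιMulti _ p e)) =
        (D.loc p U).symm (ιMulti _ p (fun j => f.app U.1 (e j))) := by
  let φ : ∀ (p : ℕ) (U : X.affineOpens), Γ(C.K.X p, U.1) →ₗ[Γ(X, U.1)] Γ(D.K.X p, U.1) := fun p U =>
    (D.loc p U).symm.toLinearMap ∘ₗ (exteriorPower.map p (appₗ f U.1)) ∘ₗ (C.loc p U).toLinearMap
  have hφ : ∀ (p : ℕ) (U : X.affineOpens) (e : Fin p → Γ(E, U.1)),
      φ p U ((C.loc p U).symm (ιMulti _ p e)) = (D.loc p U).symm (ιMulti _ p (fun j => f.app U.1 (e j))) := by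
    intro p U e
    simp only [φ, LinearMap.comp_apply, LinearEquiv.coe_coe, LinearEquiv.apply_symm_apply,
      exteriorPower.map_apply_ιMulti]
    rfl
  have hnat : ∀ (p : ℕ) (U V : X.affineOpens) (h : V.1 ≤ U.1) (x : Γ(C.K.X p, U.1)),
      φ p V ((C.K.X p).presheaf.map (homOfLE h).op x) =
        (D.K.X p).presheaf.map (homOfLE h).op (φ p U x) := by
    intro p U V h x
    obtain ⟨w, rfl⟩ := (C.loc p U).symm.surjective x
    have hw : w ∈ Submodule.span Γ(X, U.1) (Set.range (ιMulti Γ(X, U.1) p (M := Γ(E, U.1)))) := by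
      rw [exteriorPower.ιMulti_span]; trivial
    induction hw using Submodule.span_induction with
    | mem v hv =>
      obtain ⟨e, rfl⟩ := hv
      rw [hφ]
      have hC := C.loc_res p U V h e
      have hD := D.loc_res p U V h (fun j => f.app U.1 (e j))
      refine (congrArg (φ p V) hC).trans ?_
      rw [hφ]
      refine Eq.trans ?_ hD.symm
      congr 2
      funext j
      exact ConcreteCategory.congr_hom (f.mapPresheaf.naturality (homOfLE h).op) (e j)
    | zero => simp only [map_zero]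
    | add a b _ _ ha hb => simp only [map_add, ha, hb]
    | smul r a _ ha =>
      simp only [map_smul, Scheme.Modules.map_smul, ha]
  choose Φ hΦ using fun p => exists_hom_affine (φ p) (hnat p)
  have hcomm : ∀ p, Φ (p + 1) ≫ D.K.d (p + 1) p = C.K.d (p + 1) p ≫ Φ p := by
    intro p
    refine hom_ext_affine fun U x => ?_
    have : (appₗ (D.K.d (p + 1) p) U.1).comp (appₗ (Φ (p + 1)) U.1) =
        (appₗ (Φ p) U.1).comp (appₗ (C.K.d (p + 1) p) U.1) := by
      refine ext_ιMulti C (p + 1) U fun e => ?_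
      simp only [LinearMap.comp_apply, appₗ_apply]
      rw [hΦ, hφ, C.rule, D.rule, hΦ]
      simp only [φ, LinearMap.comp_apply, LinearEquiv.coe_coe, LinearEquiv.apply_symm_apply]
      congr 1
      refine (map_dGen (appₗ f U.1) (fun m => ?_) p e).symm
      subst hf
      rfl
    exact LinearMap.congr_fun this x
  refine ⟨{ f := Φ, comm' := fun i j hij => by obtain rfl : j + 1 = i := hij; exact hcomm j }, fun p U e => ?_, ?_⟩
  · exact (hΦ p U _).trans (hφ p U e)
  · intro ψ hψ
    ext p : 1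
    refine hom_ext_affine fun U x => ?_
    have : appₗ (ψ.f p) U.1 = appₗ (Φ p) U.1 := ext_ιMulti C p U fun e => by
      simp only [appₗ_apply]
      rw [hψ, hΦ, hφ]
    exact LinearMap.congr_fun this x

end Groth.L04.KSh
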