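import Groth.Prelude.Def_KoszulSh
import Mathlib.LinearAlgebra.CliffordAlgebra.Contraction
import Mathlib.RingTheory.Regular.RegularSequence
import Mathlib.LinearAlgebra.Basis.Basic

/-!
# The Koszul complex of a weakly regular sequence, on the exterior algebra
-/

set_option autoImplicit false

universe u

open exteriorPower

noncomputable section

namespace Groth.L04.KSh

variable {R : Type*} [CommRing R] {M : Type*} [AddCommGroup M] [Module R M]

/-- Contraction by a form. -/
abbrev contr (φ : M →ₗ[R] R) : ExteriorAlgebra R M →ₗ[R] ExteriorAlgebra R M :=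
  CliffordAlgebra.contractLeft (Q := (0 : QuadraticForm R M)) φ

theorem contr_ι_mul (φ : M →ₗ[R] R) (m : M) (z : ExteriorAlgebra R M) :
    contr φ (ExteriorAlgebra.ι R m * z) = φ m • z - ExteriorAlgebra.ι R m * contr φ z :=
  CliffordAlgebra.contractLeft_ι_mul φ m z

theorem contr_ιMulti (φ : M →ₗ[R] R) : ∀ (p : ℕ) (e : Fin (p + 1) → M),
    contr φ (ExteriorAlgebra.ιMulti R (p + 1) e) = (KoszSh.dGen φ p e : ExteriorAlgebra R M) := by
  intro p
  induction p with
  | zero =>
    intro e
    rw [ExteriorAlgebra.ιMulti_succ_apply, contr_ι_mul, ExteriorAlgebra.ιMulti_zero_apply]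
    rw [show contr φ (1 : ExteriorAlgebra R M) = 0 from CliffordAlgebra.contractLeft_one _ φ]
    simp [KoszSh.dGen]
  | succ p ih =>
    intro e
    rw [ExteriorAlgebra.ιMulti_succ_apply, contr_ι_mul, ih]
    simp only [KoszSh.dGen, Submodule.coe_sum, Submodule.coe_smul, exteriorPower.ιMulti_apply_coe,
      Finset.mul_sum]
    rw [Fin.sum_univ_succ (n := p + 1), sub_eq_add_neg, ← Finset.sum_neg_distrib]
    congr 1
    · simp [Fin.succAbove_zero, Matrix.vecTail, Function.comp_def]
    · refine Finset.sum_congr rfl fun i _ => ?_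
      rw [mul_smul_comm, ← neg_smul, ExteriorAlgebra.ιMulti_succ_apply (fun j => e (i.succ.succAbove j))]
      congr 1
      · simp [Matrix.vecTail, pow_succ]
      · simp [Matrix.vecTail, Function.comp_def, Fin.succ_succAbove_zero, Fin.succ_succAbove_succ]

/-- The image of a submodule in the exterior algebra. -/
abbrev im (S : Submodule R M) : Submodule R (ExteriorAlgebra R M) := S.map (ExteriorAlgebra.ι R)

theorem im_pow_le (S : Submodule R M) (p : ℕ) : im S ^ p ≤ ⋀[R]^p M :=
  pow_le_pow_left' (Submodule.map_le_iff_le_comap.2 fun x _ => LinearMap.mem_range_self _ x) p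

theorem ι_mul_mem_pow {S : Submodule R M} {p : ℕ} {m : M} (hm : m ∈ S) {z : ExteriorAlgebra R M}
    (hz : z ∈ im S ^ p) : ExteriorAlgebra.ι R m * z ∈ im S ^ (p + 1) := by
  rw [pow_succ']
  exact Submodule.mul_mem_mul (Submodule.mem_map_of_mem hm) hz

theorem algebraMap_mem_pow_zero (S : Submodule R M) (r : R) :
    algebraMap R (ExteriorAlgebra R M) r ∈ im S ^ 0 := by
  rw [pow_zero]
  exact Submodule.algebraMap_mem r

theorem exists_eq_of_mem_pow_zero {S : Submodule R M} {z : ExteriorAlgebra R M} (hz : z ∈ im S ^ 0) :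
    ∃ r : R, z = algebraMap R _ r := by
  rw [pow_zero, Submodule.mem_one] at hz
  obtain ⟨r, hr⟩ := hz
  exact ⟨r, hr.symm⟩

/-- A contraction lowers the degree by one. -/
theorem contr_mem (φ : M →ₗ[R] R) (S : Submodule R M) : ∀ (p : ℕ) {z : ExteriorAlgebra R M},
    z ∈ im S ^ (p + 1) → contr φ z ∈ im S ^ p := by
  intro p
  induction p with
  | zero =>
    intro z hz
    rw [pow_one] at hz
    obtain ⟨m, hm, rfl⟩ := hz
    have : contr φ (ExteriorAlgebra.ι R m) = algebraMap R _ (φ m) := by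
      exact CliffordAlgebra.contractLeft_ι _ φ m
    rw [this]
    exact algebraMap_mem_pow_zero S _
  | succ p ih =>
    intro z hz
    rw [pow_succ' (im S) (p + 1)] at hz
    induction hz using Submodule.mul_induction_on' with
    | mem_mul_mem a ha b hb =>
      obtain ⟨m, hm, rfl⟩ := ha
      rw [contr_ι_mul]
      exact sub_mem (Submodule.smul_mem _ _ hb) (ι_mul_mem_pow hm (ih hb))
    | add a _ b _ ha hb => rw [map_add]; exact add_mem ha hb

theorem contr_eq_zero_of_vanish (ε : M →ₗ[R] R) (S : Submodule R M) (hε : ∀ m ∈ S, ε m = 0) :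
    ∀ (p : ℕ) {z : ExteriorAlgebra R M}, z ∈ im S ^ p → contr ε z = 0 := by
  intro p
  induction p with
  | zero =>
    intro z hz
    obtain ⟨r, rfl⟩ := exists_eq_of_mem_pow_zero hz
    exact CliffordAlgebra.contractLeft_algebraMap _ ε r
  | succ p ih =>
    intro z hz
    rw [pow_succ'] at hz
    induction hz using Submodule.mul_induction_on' with
    | mem_mul_mem a ha b hb =>
      obtain ⟨m, hm, rfl⟩ := ha
      rw [contr_ι_mul, hε m hm, ih hb, zero_smul, mul_zero, sub_zero]
    | add a _ b _ ha hb => rw [map_add, ha, hb, add_zero]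

theorem map_eq_self_of_fixed (π : M →ₗ[R] M) (S : Submodule R M) (hπ : ∀ m ∈ S, π m = m) :
    ∀ (p : ℕ) {z : ExteriorAlgebra R M}, z ∈ im S ^ p → ExteriorAlgebra.map π z = z := by
  intro p
  induction p with
  | zero =>
    intro z hz
    obtain ⟨r, rfl⟩ := exists_eq_of_mem_pow_zero hz
    exact AlgHom.commutes _ r
  | succ p ih =>
    intro z hz
    rw [pow_succ'] at hz
    induction hz using Submodule.mul_induction_on' with
    | mem_mul_mem a ha b hb =>
      obtain ⟨m, hm, rfl⟩ := ha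
      rw [map_mul, ExteriorAlgebra.map_apply_ι, hπ m hm, ih hb]
    | add a _ b _ ha hb => rw [map_add, ha, hb]

/-- Splitting off one vector. -/
theorem exists_split (S : Submodule R M) (m₀ : M) : ∀ (p : ℕ) {z : ExteriorAlgebra R M},
    z ∈ im (S ⊔ Submodule.span R {m₀}) ^ (p + 1) →
      ∃ u ∈ im S ^ (p + 1), ∃ v ∈ im S ^ p, z = u + ExteriorAlgebra.ι R m₀ * v := by
  have h1 : ∀ m ∈ S ⊔ Submodule.span R {m₀}, ∃ m' ∈ S, ∃ c : R, m = m' + c • m₀ := by
    intro m hm
    obtain ⟨m', hm', w, hw, rfl⟩ := Submodule.mem_sup.1 hm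
    obtain ⟨c, rfl⟩ := Submodule.mem_span_singleton.1 hw
    exact ⟨m', hm', c, rfl⟩
  intro p
  induction p with
  | zero =>
    intro z hz
    rw [pow_one] at hz
    obtain ⟨m, hm, rfl⟩ := hz
    obtain ⟨m', hm', c, rfl⟩ := h1 m hm
    refine ⟨ExteriorAlgebra.ι R m', by rw [pow_one]; exact Submodule.mem_map_of_mem hm',
      algebraMap R _ c, algebraMap_mem_pow_zero S c, ?_⟩
    rw [map_add, map_smul, ← Algebra.commutes, ← Algebra.smul_def]
  | succ p ih =>
    intro z hz
    rw [pow_succ' (im (S ⊔ Submodule.span R {m₀})) (p + 1)] at hz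
    induction hz using Submodule.mul_induction_on' with
    | mem_mul_mem a ha b hb =>
      obtain ⟨m, hm, rfl⟩ := ha
      obtain ⟨m', hm', c, rfl⟩ := h1 m hm
      obtain ⟨u, hu, v, hv, rfl⟩ := ih hb
      refine ⟨ExteriorAlgebra.ι R m' * u, ι_mul_mem_pow hm' hu,
        c • u - ExteriorAlgebra.ι R m' * v, sub_mem (Submodule.smul_mem _ _ hu) (ι_mul_mem_pow hm' hv), ?_⟩
      have h2 : ExteriorAlgebra.ι R m₀ * (ExteriorAlgebra.ι R m₀ * v) = 0 := by
        rw [← mul_assoc, ExteriorAlgebra.ι_sq_zero, zero_mul]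
      have h3 : ExteriorAlgebra.ι R m' * (ExteriorAlgebra.ι R m₀ * v) =
          -(ExteriorAlgebra.ι R m₀ * (ExteriorAlgebra.ι R m' * v)) := by
        rw [← mul_assoc, ← mul_assoc, ← neg_mul,
          eq_neg_of_add_eq_zero_left (ExteriorAlgebra.ι_add_mul_swap m' m₀)]
      simp only [map_add, map_smul, add_mul, mul_add, smul_mul_assoc, h2, h3, smul_zero, add_zero,
        mul_sub, mul_smul_comm]
      abel
    | add a _ b _ ha hb =>
      obtain ⟨u, hu, v, hv, rfl⟩ := ha
      obtain ⟨u', hu', v', hv', rfl⟩ := hb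
      exact ⟨u + u', add_mem hu hu', v + v', add_mem hv hv', by rw [mul_add]; abel⟩

theorem exact_step (φ : M →ₗ[R] R) (S : Submodule R M) (m₀ : M) (ε : M →ₗ[R] R)
    (hεS : ∀ m ∈ S, ε m = 0) (hε0 : ε m₀ = 1)
    (hreg : ∀ c : R, c * φ m₀ ∈ S.map φ → c ∈ S.map φ)
    (ih : ∀ p, ∀ z ∈ im S ^ (p + 1), contr φ z = 0 → ∃ y ∈ im S ^ (p + 2), contr φ y = z) :
    ∀ p, ∀ z ∈ im (S ⊔ Submodule.span R {m₀}) ^ (p + 1), contr φ z = 0 →
      ∃ y ∈ im (S ⊔ Submodule.span R {m₀}) ^ (p + 2), contr φ y = z := by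
  intro p z hz hDz
  have hle : ∀ q, im S ^ q ≤ im (S ⊔ Submodule.span R {m₀}) ^ q := fun q =>
    pow_le_pow_left' (Submodule.map_mono le_sup_left) q
  have hm0 : m₀ ∈ S ⊔ Submodule.span R {m₀} := Submodule.mem_sup_right (Submodule.mem_span_singleton_self _)
  obtain ⟨u, hu, v, hv, rfl⟩ := exists_split S m₀ p hz
  let π : M →ₗ[R] M := LinearMap.id - ε.smulRight m₀
  have hπ : ∀ m ∈ S, π m = m := fun m hm => by simp [π, hεS m hm]
  have hπ0 : π m₀ = 0 := by simp [π, hε0]
  rw [map_add, contr_ι_mul] at hDz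
  have hfix : ∀ (q : ℕ) {w : ExteriorAlgebra R M}, w ∈ im S ^ q → ExteriorAlgebra.map π w = w :=
    fun q _ hw => map_eq_self_of_fixed π S hπ q hw
  have h1 : contr φ u + φ m₀ • v = 0 := by
    have := congrArg (ExteriorAlgebra.map π) hDz
    rw [map_add, map_sub, map_mul, ExteriorAlgebra.map_apply_ι, hπ0, map_zero, zero_mul, sub_zero,
      map_smul, hfix p (contr_mem φ S p hu), hfix p hv, map_zero] at this
    exact this
  have h2 : contr φ v = 0 := by
    have h3 : ExteriorAlgebra.ι R m₀ * contr φ v = 0 := by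
      rw [← add_sub_assoc, h1, zero_sub, neg_eq_zero] at hDz
      exact hDz
    have h4 : contr ε (contr φ v) = 0 := by
      cases p with
      | zero =>
        obtain ⟨r, rfl⟩ := exists_eq_of_mem_pow_zero hv
        rw [show contr φ (algebraMap R _ r) = 0 from CliffordAlgebra.contractLeft_algebraMap _ φ r, map_zero]
      | succ p => exact contr_eq_zero_of_vanish ε S hεS p (contr_mem φ S p hv)
    have := congrArg (contr ε) h3
    rwa [map_zero, contr_ι_mul, hε0, one_smul, h4, mul_zero, sub_zero] at this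
  obtain ⟨w, hw, hDw⟩ : ∃ w ∈ im S ^ (p + 1), contr φ w = v := by
    cases p with
    | zero =>
      obtain ⟨c, rfl⟩ := exists_eq_of_mem_pow_zero hv
      rw [pow_one] at hu
      obtain ⟨m, hm, rfl⟩ := hu
      rw [show contr φ (ExteriorAlgebra.ι R m) = algebraMap R _ (φ m) from CliffordAlgebra.contractLeft_ι _ φ m,
        Algebra.smul_def, ← map_mul, ← map_add, ← map_zero (algebraMap R (ExteriorAlgebra R M)),
        ExteriorAlgebra.algebraMap_inj] at h1
      obtain ⟨m', hm', hc⟩ := hreg c ⟨-m, neg_mem hm, by rw [map_neg]; linear_combination -h1⟩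
      refine ⟨ExteriorAlgebra.ι R m', by rw [pow_one]; exact Submodule.mem_map_of_mem hm', ?_⟩
      rw [← hc]
      exact CliffordAlgebra.contractLeft_ι _ φ m'
    | succ p => exact ih p v hv h2
  obtain ⟨y', hy', hDy'⟩ := ih p (u + φ m₀ • w) (add_mem hu (Submodule.smul_mem _ _ hw))
    (by rw [map_add, map_smul, hDw, h1])
  refine ⟨y' - ExteriorAlgebra.ι R m₀ * w, sub_mem (hle _ hy') (ι_mul_mem_pow hm0 (hle _ hw)), ?_⟩
  rw [map_sub, contr_ι_mul, hDy', hDw]
  abel

/-- The Koszul complex of a basis with weakly regular values is exact in positive degrees. -/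
theorem exact_of_isWeaklyRegular {n : ℕ} (b : Module.Basis (Fin n) R M) (φ : M →ₗ[R] R)
    (h : RingTheory.Sequence.IsWeaklyRegular R (List.ofFn fun k => φ (b k))) (p : ℕ)
    {z : ExteriorAlgebra R M} (hz : z ∈ ⋀[R]^(p + 1) M) (hDz : contr φ z = 0) :
    ∃ y ∈ ⋀[R]^(p + 2) M, contr φ y = z := by
  let S : ℕ → Submodule R M := fun k => Submodule.span R (b '' {i | (i : ℕ) < k})
  have key : ∀ k, k ≤ n → ∀ p, ∀ z ∈ im (S k) ^ (p + 1), contr φ z = 0 →
      ∃ y ∈ im (S k) ^ (p + 2), contr φ y = z := by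
    intro k
    induction k with
    | zero =>
      intro _ p z hz _
      have h0 : im (S 0) = ⊥ := by
        simp [S, im]
      rw [h0, pow_succ', Submodule.bot_mul, Submodule.mem_bot] at hz
      exact ⟨0, zero_mem _, by rw [map_zero, hz]⟩
    | succ k ih =>
      intro hk
      have hS : S (k + 1) = S k ⊔ Submodule.span R {b ⟨k, hk⟩} := by
        simp only [S]
        rw [← Submodule.span_union]
        congr 1
        ext m
        constructor
        · rintro ⟨i, hi, rfl⟩
          rcases Nat.lt_succ_iff_lt_or_eq.1 hi with h' | h'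
          · exact Or.inl ⟨i, h', rfl⟩
          · exact Or.inr (congrArg b (Fin.ext h'))
        · rintro (⟨i, hi, rfl⟩ | rfl)
          · exact ⟨i, Nat.lt_succ_of_lt hi, rfl⟩
          · exact ⟨⟨k, hk⟩, Nat.lt_succ_self k, rfl⟩
      rw [hS]
      refine exact_step φ (S k) (b ⟨k, hk⟩) (b.coord ⟨k, hk⟩) (fun m hm => ?_) ?_ ?_ (ih (by omega))
      · refine (Submodule.span_le.2 ?_ : S k ≤ LinearMap.ker (b.coord ⟨k, hk⟩)) hm
        rintro _ ⟨i, hi, rfl⟩
        have hne : i ≠ ⟨k, hk⟩ := fun e => by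
          rw [e] at hi
          exact lt_irrefl k hi
        simp [hne]
      · simp
      · intro c hc
        have hJ : (S k).map φ = Ideal.ofList ((List.ofFn fun i => φ (b i)).take k) := by
          simp only [S, Submodule.map_span]
          refine congrArg (Submodule.span R) ?_
          ext x
          simp only [Set.mem_image, Set.mem_setOf_eq, List.mem_take_iff_getElem, List.length_ofFn,
            List.getElem_ofFn]
          constructor
          · rintro ⟨_, ⟨i, hi, rfl⟩, rfl⟩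
            exact ⟨i, by omega, rfl⟩
          · rintro ⟨j, hj, rfl⟩
            exact ⟨_, ⟨⟨j, by omega⟩, by show j < k; omega, rfl⟩, rfl⟩
        rw [hJ] at hc ⊢
        have hr := (RingTheory.Sequence.isWeaklyRegular_iff _ _).1 h k (by simpa using hk)
        rw [List.getElem_ofFn, isSMulRegular_quotient_iff_mem_of_smul_mem] at hr
        have := hr c
        simp only [smul_eq_mul, Ideal.mul_top] at this
        exact this (by rwa [mul_comm])
  have htop : im (S n) = LinearMap.range (ExteriorAlgebra.ι R) := by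
    have : S n = ⊤ := by
      simp only [S]
      rw [show {i : Fin n | (i : ℕ) < n} = Set.univ from Set.eq_univ_of_forall fun i => i.2, Set.image_univ,
        b.span_eq]
    rw [im, this, Submodule.map_top]
  have := key n le_rfl p z (by rw [htop]; exact hz) hDz
  rw [htop] at this
  exact this

/-- The same statement on exterior powers, for any linear map with the rule of the Koszul differential. -/
theorem exact_extPow {n : ℕ} (b : Module.Basis (Fin n) R M) (φ : M →ₗ[R] R)
    (h : RingTheory.Sequence.IsWeaklyRegular R (List.ofFn fun k => φ (b k))) (p : ℕ)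
    (d₁ : ⋀[R]^(p + 1) M →ₗ[R] ⋀[R]^p M) (d₂ : ⋀[R]^(p + 2) M →ₗ[R] ⋀[R]^(p + 1) M)
    (hd₁ : ∀ e, d₁ (ιMulti R (p + 1) e) = KoszSh.dGen φ p e)
    (hd₂ : ∀ e, d₂ (ιMulti R (p + 2) e) = KoszSh.dGen φ (p + 1) e)
    {z : ⋀[R]^(p + 1) M} (hz : d₁ z = 0) : ∃ y, d₂ y = z := by
  have key : ∀ (q : ℕ) (d : ⋀[R]^(q + 1) M →ₗ[R] ⋀[R]^q M),
      (∀ e, d (ιMulti R (q + 1) e) = KoszSh.dGen φ q e) →
        ∀ w, (d w : ExteriorAlgebra R M) = contr φ (w : ExteriorAlgebra R M) := by
    intro q d hd w
    have : (Submodule.subtype _).comp d = (contr φ).comp (Submodule.subtype _) := by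
      refine exteriorPower.linearMap_ext ?_
      ext e
      show (d (ιMulti R (q + 1) e) : ExteriorAlgebra R M) = contr φ _
      rw [hd]
      exact (contr_ιMulti φ q e).symm
    exact LinearMap.congr_fun this w
  obtain ⟨y, hy, hDy⟩ := exact_of_isWeaklyRegular b φ h p z.2 (by rw [← key p d₁ hd₁, hz]; rfl)
  exact ⟨⟨y, hy⟩, Subtype.ext ((key (p + 1) d₂ hd₂ _).trans hDy)⟩

end Groth.L04.KSh
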