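import Groth.Agent.L04.KSh.Hom
import Groth.Agent.L04.KSh.RingLevel
import Groth.Agent.L21.Mod.Stalks
import Groth.Agent.L20.ModStalk
import Groth.Agent.L18.LocFreeFP
import Mathlib.RingTheory.Regular.Flat
import Mathlib.RingTheory.Localization.Module

/-!
# Exactness of the Koszul complex of a regular section
-/

set_option autoImplicit false
set_option linter.style.haveILetI false

universe u

open CategoryTheory CategoryTheory.Limits TopologicalSpace AlgebraicGeometry Opposite exteriorPower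

noncomputable section

namespace Groth.L04.KSh

variable {X : Scheme.{u}} {E : X.Modules} {s : E ⟶ Coh.structureModule X}

theorem secForm_res (s : E ⟶ Coh.structureModule X) {U V : X.Opens} (h : V ≤ U) (e : Γ(E, U)) :
    KoszSh.secForm s V (E.presheaf.map (homOfLE h).op e) =
      X.presheaf.map (homOfLE h).op (KoszSh.secForm s U e) :=
  congrArg (OmegaSh.fnSect X V) (ConcreteCategory.congr_hom (s.mapPresheaf.naturality (homOfLE h).op) e)

theorem exact_affine (C : KoszSh.Cx E s) {n : ℕ} (U : X.affineOpens) (b : Module.Basis (Fin n) Γ(X, U.1) Γ(E, U.1))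
    (hreg : RingTheory.Sequence.IsWeaklyRegular Γ(X, U.1) (List.ofFn fun k => KoszSh.secForm s U.1 (b k)))
    (p : ℕ) (z : Γ(C.K.X (p + 1), U.1)) (hz : (C.K.d (p + 1) p).app U.1 z = 0) :
    ∃ y, (C.K.d (p + 2) (p + 1)).app U.1 y = z := by
  let d₁ : ⋀[Γ(X, U.1)]^(p + 1) Γ(E, U.1) →ₗ[Γ(X, U.1)] ⋀[Γ(X, U.1)]^p Γ(E, U.1) :=
    (C.loc p U).toLinearMap ∘ₗ appₗ (C.K.d (p + 1) p) U.1 ∘ₗ (C.loc (p + 1) U).symm.toLinearMap
  let d₂ : ⋀[Γ(X, U.1)]^(p + 2) Γ(E, U.1) →ₗ[Γ(X, U.1)] ⋀[Γ(X, U.1)]^(p + 1) Γ(E, U.1) :=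
    (C.loc (p + 1) U).toLinearMap ∘ₗ appₗ (C.K.d (p + 2) (p + 1)) U.1 ∘ₗ (C.loc (p + 2) U).symm.toLinearMap
  obtain ⟨y, hy⟩ := exact_extPow b (KoszSh.secForm s U.1) hreg p d₁ d₂
    (fun e => by simp [d₁, appₗ_apply, C.rule p U e])
    (fun e => by simp [d₂, appₗ_apply, C.rule (p + 1) U e])
    (z := C.loc (p + 1) U z) (by simp [d₁, appₗ_apply, hz])
  refine ⟨(C.loc (p + 2) U).symm y, (C.loc (p + 1) U).injective ?_⟩
  simpa [d₂, appₗ_apply] using hy

/-- A basis with weakly regular values restricts to basic opens. -/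
theorem exists_basis_basicOpen [Coh.IsQCoh E] {n : ℕ} (U : X.affineOpens)
    (b : Module.Basis (Fin n) Γ(X, U.1) Γ(E, U.1))
    (hreg : RingTheory.Sequence.IsWeaklyRegular Γ(X, U.1) (List.ofFn fun k => KoszSh.secForm s U.1 (b k)))
    (g : Γ(X, U.1)) :
    ∃ b' : Module.Basis (Fin n) Γ(X, X.basicOpen g) Γ(E, X.basicOpen g),
      RingTheory.Sequence.IsWeaklyRegular Γ(X, X.basicOpen g)
        (List.ofFn fun k => KoszSh.secForm s (X.basicOpen g) (b' k)) := by
  letI := Module.compHom Γ(E, X.basicOpen g) (X.presheaf.map (homOfLE (X.basicOpen_le g)).op).hom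
  letI : Algebra Γ(X, U.1) Γ(X, X.basicOpen g) := (X.presheaf.map (homOfLE (X.basicOpen_le g)).op).hom.toAlgebra
  haveI : IsScalarTower Γ(X, U.1) Γ(X, X.basicOpen g) Γ(E, X.basicOpen g) :=
    IsScalarTower.of_algebraMap_smul fun _ _ => rfl
  haveI : IsLocalization.Away g Γ(X, X.basicOpen g) := U.2.isLocalization_basicOpen g
  let f : Γ(E, U.1) →ₗ[Γ(X, U.1)] Γ(E, X.basicOpen g) :=
    { toFun := fun e => Groth.L18.Frame.rs E (X.basicOpen_le g) e
      map_add' := fun a b => map_add _ a b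
      map_smul' := fun a e => Groth.L18.Frame.rs_smul E (X.basicOpen_le g) a e }
  haveI : IsLocalizedModule (Submonoid.powers g) f := Groth.L20.ModStalk.isLocalizedModule_res E U.2 g
  refine ⟨b.ofIsLocalizedModule Γ(X, X.basicOpen g) (Submonoid.powers g) f, ?_⟩
  haveI : Module.Flat Γ(X, U.1) Γ(X, X.basicOpen g) := IsLocalization.flat _ (Submonoid.powers g)
  have h := hreg.of_flat (S := Γ(X, X.basicOpen g))
  rw [List.map_ofFn] at h
  convert h using 3 with k
  rw [Function.comp_apply, Module.Basis.ofIsLocalizedModule_apply]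
  exact secForm_res s (X.basicOpen_le g) (b k)

/-- The Koszul complex of a regular section is exact in positive degrees. -/
theorem isZero_homology (hE : FlatMod.IsFinLocFree E) {n : ℕ}
    (hs : ∀ x : X, ∃ U : X.affineOpens, x ∈ U.1 ∧
      ∃ b : Module.Basis (Fin n) Γ(X, U.1) Γ(E, U.1),
        RingTheory.Sequence.IsWeaklyRegular Γ(X, U.1) (List.ofFn fun k => KoszSh.secForm s U.1 (b k)))
    (C : KoszSh.Cx E s) (p : ℕ) : IsZero (C.K.homology (p + 1)) := by
  haveI : Coh.IsQCoh E := by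
    obtain ⟨d, -⟩ := (Groth.L18.LFP.isFP_of_isFinLocFree E hE).exists_quasicoherentData
    exact d.isQuasicoherent
  refine HomologicalComplex.ExactAt.isZero_homology ?_
  rw [HomologicalComplex.exactAt_iff' C.K (p + 2) (p + 1) p (by simp) (by simp),
    Groth.L21.Mod.exact_iff_stalk]
  intro x
  rw [ShortComplex.ab_exact_iff]
  intro w hw
  obtain ⟨U, hxU, b, hreg⟩ := hs x
  obtain ⟨W, hxW, z, rfl⟩ := (C.K.X (p + 1)).presheaf.germ_exist w
  change (Groth.L21.Mod.stalkF X x).map (C.K.d (p + 1) p) _ = 0 at hw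
  rw [Groth.L21.Mod.stalkF_map_germ] at hw
  obtain ⟨W', hxW', i₁, i₂, heq⟩ := TopCat.Presheaf.germ_eq (C.K.X p).presheaf x hxW hxW
    ((C.K.d (p + 1) p).app W z) 0 (hw.trans (map_zero _).symm)
  obtain ⟨g, hgW, hxg⟩ := U.2.exists_basicOpen_le (V := W' ⊓ U.1) ⟨x, ⟨hxW', hxU⟩⟩ hxU
  have hle : X.basicOpen g ≤ W := hgW.trans (inf_le_left.trans i₁.le)
  obtain ⟨b', hreg'⟩ := exists_basis_basicOpen U b hreg g
  obtain ⟨y, hy⟩ := exact_affine C ⟨X.basicOpen g, U.2.basicOpen g⟩ b' hreg' p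
    ((C.K.X (p + 1)).presheaf.map (homOfLE hle).op z) (by
      refine (ConcreteCategory.congr_hom ((C.K.d (p + 1) p).mapPresheaf.naturality (homOfLE hle).op) z).trans ?_
      have h0 := congrArg ((C.K.X p).presheaf.map (homOfLE (hgW.trans inf_le_left)).op) heq
      rw [map_zero, map_zero, ← ConcreteCategory.comp_apply, ← Functor.map_comp] at h0
      exact h0)
  refine ⟨(C.K.X (p + 2)).presheaf.germ (X.basicOpen g) x hxg y, ?_⟩
  change (Groth.L21.Mod.stalkF X x).map (C.K.d (p + 2) (p + 1)) _ = _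
  rw [Groth.L21.Mod.stalkF_map_germ, hy]
  exact TopCat.Presheaf.germ_res_apply _ (homOfLE hle) x hxg z

end Groth.L04.KSh
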