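import Groth.Agent.L04.KSh.Exact
import Groth.Agent.L07.CMInterAlg
import Groth.Agent.L07.RegSpread
import Groth.Agent.L14.RegImmStalk.Stalk
import Groth.Agent.L12.FinCov.Basis

/-!
# Koszul resolutions of local complete intersections
-/

set_option autoImplicit false
set_option linter.style.haveILetI false

universe u

open CategoryTheory CategoryTheory.Limits TopologicalSpace AlgebraicGeometry Opposite RingTheory.Sequence

noncomputable section

namespace Groth.L04.KSh

theorem exists_regular_affine {X Y : Scheme.{u}}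
    [IsLocallyNoetherian X] (hCM : ∀ x : X, LocCoh.IsCohenMacaulayLocalRing (X.presheaf.stalk x))
    (i : Y ⟶ X) [IsClosedImmersion i] (c : ℕ)
    (y : Y) {U : X.affineOpens} (hy : i.base y ∈ U.1) (g : Fin c → Γ(X, U.1))
    (hgU : i.ker.ideal U = Ideal.span (Set.range g))
    (hht : (c : ℕ∞) ≤ (RingHom.ker (i.stalkMap y).hom).height) :
    ∃ V : X.affineOpens, i.base y ∈ V.1 ∧ ∃ f : Fin c → Γ(X, V.1),
      i.ker.ideal V = Ideal.span (Set.range f) ∧ IsWeaklyRegular Γ(X, V.1) (List.ofFn f) := by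
  haveI : IsNoetherianRing Γ(X, U.1) := IsLocallyNoetherian.component_noetherian U
  letI : Algebra Γ(X, U.1) (X.presheaf.stalk (i y)) := (X.presheaf.germ U.1 (i y) hy).hom.toAlgebra
  haveI := U.2.isLocalization_stalk ⟨i y, hy⟩
  haveI := hCM (i y)
  let p := (U.2.primeIdealOf ⟨i y, hy⟩).asIdeal
  have hker : Ideal.ofList ((List.ofFn g).map (algebraMap Γ(X, U.1) (X.presheaf.stalk (i y)))) =
      RingHom.ker (i.stalkMap y).hom := by
    rw [Groth.L14.RegImmStalk.ker_stalkMap i U.2 inferInstance y hy, ← Scheme.Hom.ker_apply, hgU,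
      Ideal.map_span, List.map_ofFn, Ideal.ofList]
    refine congrArg Ideal.span (Set.ext fun z => ?_)
    simp only [Set.mem_setOf_eq, List.mem_ofFn, Set.mem_image, Set.mem_range, Function.comp_apply,
      exists_exists_eq_and]
    rfl
  have hreg : IsWeaklyRegular (X.presheaf.stalk (i y))
      ((List.ofFn g).map (algebraMap Γ(X, U.1) (X.presheaf.stalk (i y)))) := by
    refine Groth.L07.CMInterAlg.isWeaklyRegular_of_le_height _ (fun x hx => ?_) (fun P _ hP => ?_)
    · refine IsLocalRing.le_maximalIdeal (RingHom.ker_ne_top (i.stalkMap y).hom) ?_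
      rw [← hker]
      exact Ideal.subset_span hx
    · rw [List.length_map, List.length_ofFn]
      exact hht.trans (Ideal.height_mono (hker.ge.trans hP))
  obtain ⟨a, ha, hT⟩ := Groth.L07.RegSeq.exists_away_isWeaklyRegular (List.ofFn g) p
    (X.presheaf.stalk (i y)) hreg
  letI : Algebra Γ(X, U.1) Γ(X, X.basicOpen a) := (X.presheaf.map (homOfLE (X.basicOpen_le a)).op).hom.toAlgebra
  haveI := U.2.isLocalization_basicOpen a
  refine ⟨X.affineBasicOpen a, ?_, fun k => algebraMap Γ(X, U.1) Γ(X, X.basicOpen a) (g k), ?_, ?_⟩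
  · show i y ∈ X.basicOpen a
    rw [Scheme.mem_basicOpen X a (i y) hy]
    exact IsLocalization.map_units (X.presheaf.stalk (i y)) (⟨a, ha⟩ : p.primeCompl)
  · rw [← i.ker.map_ideal_basicOpen U a, hgU, Ideal.map_span, ← Set.range_comp]
    rfl
  · have := hT Γ(X, X.basicOpen a) a inferInstance (dvd_refl a)
    rw [List.map_ofFn] at this
    exact this

theorem isZero_homology_freeMod {X : Scheme.{u}} {U : X.Opens} (hU : IsAffineOpen U) {c : ℕ}
    (f : Fin c → Γ(X, U)) (hf : IsWeaklyRegular Γ(X, U) (List.ofFn f))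
    (s : FlatMod.freeMod (↑U) c ⟶ Coh.structureModule (↑U))
    (hs : ∀ k : Fin c, KoszSh.secForm s ⊤ ((Limits.Sigma.ι (fun _ : Fin c => Coh.structureModule (↑U)) k).app ⊤
            (OmegaSh.strSect (↑U) ⊤ 1)) = U.topIso.inv (f k))
    (C : KoszSh.Cx (FlatMod.freeMod (↑U) c) s) (q : ℕ) (hq : 1 ≤ q) : IsZero (C.K.homology q) := by
  haveI : IsAffine U.toScheme := hU
  obtain ⟨p, rfl⟩ : ∃ p, q = p + 1 := ⟨q - 1, by omega⟩
  let W : U.toScheme.Opens := ⊤
  let a : Fin c → (Coh.structureModule U.toScheme ⟶ FlatMod.freeMod U.toScheme c) := fun k =>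
    Sigma.ι (fun _ : Fin c => Coh.structureModule U.toScheme) k
  let π : Fin c → (FlatMod.freeMod U.toScheme c ⟶ Coh.structureModule U.toScheme) := fun j =>
    Sigma.desc fun i => if i = j then 𝟙 _ else 0
  have hπ : ∑ i, π i ≫ a i = 𝟙 (FlatMod.freeMod U.toScheme c) := by
    refine Sigma.hom_ext _ _ fun k => ?_
    rw [Preadditive.comp_sum, Category.comp_id, Finset.sum_eq_single k]
    · simp [π, a]
    · intro i _ hi
      simp [π, a, Ne.symm hi]
    · exact fun hk => (hk (Finset.mem_univ k)).elim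
  have hbij := Groth.L12.FinCov.bijective_lc a π (fun i j => Sigma.ι_desc _ i) hπ ⊤
  let b : Fin c → Γ(FlatMod.freeMod U.toScheme c, ⊤) := fun k => (a k).app ⊤ (1 : Γ(U.toScheme, ⊤))
  let lcₗ : (Fin c → Γ(U.toScheme, ⊤)) →ₗ[Γ(U.toScheme, ⊤)] Γ(FlatMod.freeMod U.toScheme c, ⊤) :=
    { toFun := Groth.L12.FinCov.lc _ b (le_refl ⊤)
      map_add' := fun r r' => by simp [Groth.L12.FinCov.lc, add_smul, Finset.sum_add_distrib]
      map_smul' := fun r r' => by simp [Groth.L12.FinCov.lc, Finset.smul_sum, smul_smul] }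
  let B := Module.Basis.ofEquivFun (LinearEquiv.ofBijective lcₗ hbij).symm
  have hB : ∀ k, B k = b k := fun k => by
    rw [Module.Basis.coe_ofEquivFun]
    show Groth.L12.FinCov.lc _ b (le_refl ⊤) (Pi.single k 1) = b k
    rw [Groth.L12.FinCov.lc, Finset.sum_eq_single k (fun j _ hj => by rw [Pi.single_eq_of_ne hj, zero_smul])
      (fun hk => (hk (Finset.mem_univ k)).elim), Pi.single_eq_same, one_smul, Groth.L12.FinCov.rM_self]
  refine isZero_homology (n := c) (fun x => ⟨⊤, c, Opens.mem_top x, ⟨?_⟩⟩)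
    (fun x => ⟨⟨⊤, isAffineOpen_top _⟩, Opens.mem_top x, B, ?_⟩) C p
  · exact (Scheme.Modules.restrictFunctor (⊤ : U.toScheme.Opens).ι).mapIso (Iso.refl _) ≪≫
      Nonempty.some (Groth.L12.FinCov.nonempty_restrict_iso_free (b := b) fun V hV => by
        exact Groth.L12.FinCov.bijective_lc a π (fun i j => Sigma.ι_desc _ i) hπ V)
  · have h : (List.ofFn fun k => KoszSh.secForm s ⊤ (B k)) = (List.ofFn f).map U.topIso.inv.hom := by
      rw [List.map_ofFn]
      refine congrArg List.ofFn (funext fun k => ?_)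
      rw [hB]
      exact hs k
    rw [h]
    have hF : List.Forall₂ (fun (r : Γ(X, U)) (r' : Γ(U.toScheme, ⊤)) => ∀ x : Γ(X, U),
        U.topIso.symm.commRingCatIsoToRingEquiv.toAddEquiv (r • x) =
          r' • U.topIso.symm.commRingCatIsoToRingEquiv.toAddEquiv x)
        (List.ofFn f) ((List.ofFn f).map U.topIso.inv.hom) :=
      List.forall₂_map_right_iff.mpr (List.forall₂_same.mpr fun r _ x => map_mul U.topIso.inv.hom r x)
    exact (AddEquiv.isWeaklyRegular_congr hF).1 hf

end Groth.L04.KSh
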